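import Groth.Agent.L05.LocalForm.Main
import Groth.Agent.L19.NormalSections
import Groth.Agent.L01.NormalDomain
import Groth.Agent.L18.ValCritEss
import Groth.Agent.L20.SeeNormal.Sheaf
import Groth.Agent.L21.Nodal.NodalMax

/-!
# Divisors in the exceptional fibre of a normal modification have non-trivial conormal sheaf
-/

set_option autoImplicit false
set_option backward.isDefEq.respectTransparency false
set_option linter.style.haveILetI false
set_option linter.unusedSectionVars false

universe u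

open CategoryTheory CategoryTheory.Limits AlgebraicGeometry TopologicalSpace
open Groth.L05.InterPair Groth.L22

noncomputable section

namespace Groth.L05.LocalForm

section Scheme

variable {X : Scheme.{u}}

theorem mem_support_iff_stalk (I : X.IdealSheafData) (U : X.affineOpens) (x : X) (hx : x ∈ U.1) :
    x ∈ (I.support : Set X) ↔
      Div.stalkIdeal I U x hx ≤ IsLocalRing.maximalIdeal (X.presheaf.stalk x) := by
  rw [CartierDecomp.mem_support_iff hx, Div.stalkIdeal, Ideal.map_le_iff_le_comap]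
  letI : Algebra Γ(X, U.1) (X.presheaf.stalk x) := (X.presheaf.germ U.1 x hx).hom.toAlgebra
  haveI : IsLocalization.AtPrime (X.presheaf.stalk x) (U.2.primeIdealOf ⟨x, hx⟩).asIdeal :=
    U.2.isLocalization_stalk ⟨x, hx⟩
  rw [show Ideal.comap (X.presheaf.germ U.1 x hx).hom (IsLocalRing.maximalIdeal (X.presheaf.stalk x)) =
    (U.2.primeIdealOf ⟨x, hx⟩).asIdeal from
      IsLocalization.AtPrime.comap_maximalIdeal (X.presheaf.stalk x) (U.2.primeIdealOf ⟨x, hx⟩).asIdeal]

theorem stalkIdeal_mul (I J : X.IdealSheafData) (U : X.affineOpens) (x : X) (hx : x ∈ U.1) :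
    Div.stalkIdeal (I * J) U x hx = Div.stalkIdeal I U x hx * Div.stalkIdeal J U x hx := by
  simp [Div.stalkIdeal, Ideal.map_mul]

theorem stalkIdeal_pow (I : X.IdealSheafData) (n : ℕ) (U : X.affineOpens) (x : X) (hx : x ∈ U.1) :
    Div.stalkIdeal (I ^ n) U x hx = Div.stalkIdeal I U x hx ^ n := by
  simp [Div.stalkIdeal, Ideal.map_pow]

/-- On a normal scheme an effective Cartier ideal contains every ideal that it contains in codimension one. -/
theorem le_of_codim_one [IsIntegral X] [IsLocallyNoetherian X] (hn : Pi1.IsNormalScheme X)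
    {A B : X.IdealSheafData} (hA : BlowUp.IsEffCartierIdeal A)
    (h : ∀ (U : X.affineOpens) (y : X) (hy : y ∈ U.1), ringKrullDim (X.presheaf.stalk y) = 1 →
      Div.stalkIdeal B U y hy ≤ Div.stalkIdeal A U y hy) : B ≤ A := by
  choose U hxU g hg hU using hA
  suffices hsup : A ⊔ B = A by rw [← hsup]; exact le_sup_right
  refine Scheme.IdealSheafData.ext_of_iSup_eq_top U
    (eq_top_iff.2 fun x _ => Opens.mem_iSup.2 ⟨x, hxU x⟩) fun x => ?_
  rw [Scheme.IdealSheafData.ideal_sup, Pi.sup_apply, sup_eq_left, hU x]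
  intro f hf
  by_contra hfn
  haveI : Nonempty ((U x).1 : X.Opens) := ⟨⟨x, hxU x⟩⟩
  haveI : IsNoetherianRing Γ(X, (U x).1) := IsLocallyNoetherian.component_noetherian (U x)
  haveI : IsIntegrallyClosed Γ(X, (U x).1) :=
    Groth.L19.NormalSec.isIntegrallyClosed_sections (fun z => (hn z).2) (U x).1
  obtain ⟨P, hP, hle⟩ := exists_le_isAssociatedPrime_of_isNoetherianRing Γ(X, (U x).1)
    (Ideal.Quotient.mk (Ideal.span {g x}) f : Γ(X, (U x).1) ⧸ Ideal.span {g x})
    (by rwa [Ne, Ideal.Quotient.eq_zero_iff_mem])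
  haveI := hP.isPrime
  have hPh := Groth.L01.height_eq_one_of_mem_associatedPrimes (nonZeroDivisors.ne_zero (hg x)) (p := P) hP
  let p : Spec Γ(X, (U x).1) := ⟨P, inferInstance⟩
  have hy := LocalDim.fromSpec_mem (U x).2 p
  have hdim : ringKrullDim (X.presheaf.stalk ((U x).2.fromSpec p)) = 1 := by
    rw [LocalDim.dim_stalk_eq_height (U x).2 hy, LocalDim.primeIdealOf_fromSpec]
    show ((P.height : ℕ∞) : WithBot ℕ∞) = 1
    rw [hPh]; rfl
  letI : Algebra Γ(X, (U x).1) (X.presheaf.stalk ((U x).2.fromSpec p)) :=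
    (X.presheaf.germ (U x).1 _ hy).hom.toAlgebra
  haveI : IsLocalization.AtPrime (X.presheaf.stalk ((U x).2.fromSpec p))
      ((U x).2.primeIdealOf ⟨_, hy⟩).asIdeal := (U x).2.isLocalization_stalk ⟨_, hy⟩
  have h1 := h (U x) _ hy hdim (Ideal.mem_map_of_mem _ hf)
  rw [Div.stalkIdeal, hU x] at h1
  obtain ⟨s, hs, hsf⟩ := (IsLocalization.algebraMap_mem_map_algebraMap_iff
    ((U x).2.primeIdealOf ⟨_, hy⟩).asIdeal.primeCompl (X.presheaf.stalk ((U x).2.fromSpec p)) _ _).1 h1
  have hsP : s ∉ P := fun h => hs (by rw [LocalDim.primeIdealOf_fromSpec]; exact h)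
  refine hsP (hle ?_)
  rw [Submodule.mem_colon_singleton, Submodule.mem_bot]
  exact Ideal.Quotient.eq_zero_iff_mem.2 hsf

/-- The maximal points of a closed subset of a Noetherian scheme are finite. -/
theorem finite_maximal [AlgebraicGeometry.IsNoetherian X] {F : Set X} (hF : IsClosed F) :
    {y | y ∈ F ∧ ∀ z ∈ F, z ⤳ y → z = y}.Finite := by
  obtain ⟨S, hSf, hSc, hSi, hSF⟩ := NoetherianSpace.exists_finite_set_isClosed_irreducible hF
  choose g hg using fun t : S => QuasiSober.sober (hSi t t.2) (hSc t t.2)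
  haveI := hSf.to_subtype
  refine (Set.finite_range g).subset fun y ⟨hy, hmax⟩ => ?_
  rw [hSF] at hy
  obtain ⟨t, ht, hyt⟩ := hy
  refine ⟨⟨t, ht⟩, hmax _ ?_ ((hg ⟨t, ht⟩).specializes hyt)⟩
  rw [hSF]
  exact ⟨t, ht, (hg ⟨t, ht⟩).mem⟩

/-- A point of a closed set without specialisations which lies in a connected closed set is all of it. -/
theorem eq_singleton_of_isolated [AlgebraicGeometry.IsNoetherian X] {F : Set X} (hF : IsClosed F)
    (hconn : _root_.IsPreconnected F) {x : X} (hx : x ∈ F) (hxc : IsClosed ({x} : Set X))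
    (hmax : ∀ z ∈ F, z ⤳ x → z = x) : F = {x} := by
  let T : Set X := {y | (y ∈ F ∧ ∀ z ∈ F, z ⤳ y → z = y) ∧ y ≠ x}
  have hT : T.Finite := (finite_maximal hF).subset fun y hy => hy.1
  let C : Set X := ⋃ y ∈ T, closure {y}
  have hC : IsClosed C := hT.isClosed_biUnion fun y _ => isClosed_closure
  have hcov : F ⊆ {x} ∪ C := fun z hz => by
    obtain ⟨y, hy, hyz, hym⟩ := CartierDecomp.exists_maximal_of_mem hF hz
    by_cases hyx : y = x
    · subst hyx
      exact Or.inl (hxc.closure_eq.le (specializes_iff_mem_closure.1 hyz))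
    · exact Or.inr (Set.mem_iUnion₂.2 ⟨y, ⟨⟨hy, hym⟩, hyx⟩, specializes_iff_mem_closure.1 hyz⟩)
  refine Set.eq_singleton_iff_unique_mem.2 ⟨hx, fun z hz => ?_⟩
  by_contra hzx
  rcases hcov hz with h | h
  · exact hzx h
  obtain ⟨w, -, hw, hwC⟩ := isPreconnected_closed_iff.1 hconn {x} C hxc hC hcov ⟨x, hx, rfl⟩ ⟨z, hz, h⟩
  obtain rfl : w = x := hw
  obtain ⟨y, ⟨⟨hy, -⟩, hyx⟩, hyw⟩ := Set.mem_iUnion₂.1 hwC
  exact hyx (hmax y hy (specializes_iff_mem_closure.2 hyw))

end Scheme

variable {R : Type u} [CommRing R] [IsDomain R] [IsNoetherianRing R] [IsLocalRing R] [IsIntegrallyClosed R]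
  {X : Scheme.{u}} (π : X ⟶ Spec (CommRingCat.of R)) [IsProper π] [IsIntegral X]

set_option maxHeartbeats 800000 in
/-- A divisor in the exceptional fibre has non-trivial conormal module. -/
theorem conormal_not_trivial (hdimR : ringKrullDim R = 2) (hn : Pi1.IsNormalScheme X)
    (hbir : ∃ U : (Spec (CommRingCat.of R)).Opens, (U : Set (Spec (CommRingCat.of R))).Nonempty ∧ IsIso (π ∣_ U))
    (I : X.IdealSheafData) (hI : BlowUp.IsEffCartierIdeal I) (hne : (I.support : Set X).Nonempty)
    (hZ : (I.support : Set X) ⊆ π ⁻¹' {IsLocalRing.closedPoint R}) :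
    IsEmpty ((Scheme.Modules.pullback I.subschemeι).obj (ClSub.idealMod I) ≅ Coh.structureModule I.subscheme) := by
  classical
  refine ⟨fun φ => ?_⟩
  obtain ⟨U, hUne, hUiso⟩ := hbir
  haveI := hUiso
  haveI : IsDomain (CommRingCat.of R) := inferInstanceAs (IsDomain R)
  haveI : IsNoetherianRing (CommRingCat.of R) := inferInstanceAs (IsNoetherianRing R)
  haveI : IsLocallyNoetherian X := LocallyOfFiniteType.isLocallyNoetherian π
  haveI : AlgebraicGeometry.IsNoetherian X :=
    { toIsLocallyNoetherian := inferInstance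
      toCompactSpace := QuasiCompact.compactSpace_of_compactSpace π }
  obtain ⟨hη, -⟩ := Groth.L13.RatSing.birational_of_isIso_restrict π U hUne
  have hdimX := dim_stalk_le_two π hdimR U hUne
  have hm : IsLocalRing.maximalIdeal R ≠ ⊥ := fun h => by
    have := ringKrullDim_eq_zero_of_isField (IsLocalRing.isField_iff_maximalIdeal_eq.2 h)
    rw [hdimR] at this
    exact absurd this (by decide)
  let F : Set X := π ⁻¹' {IsLocalRing.closedPoint R}
  have hF : IsClosed F :=
    ((PrimeSpectrum.isClosed_singleton_iff_isMaximal _).2 (IsLocalRing.maximalIdeal.isMaximal R)).preimage π.continuous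
  have hηF : genericPoint X ∉ F := fun h => by
    have h' : π (genericPoint X) = IsLocalRing.closedPoint R := h
    rw [hη, genericPoint_eq_bot_of_affine] at h'
    exact hm (congrArg PrimeSpectrum.asIdeal h').symm
  have hone : ∀ y ∈ F, (1 : WithBot ℕ∞) ≤ ringKrullDim (X.presheaf.stalk y) := fun y hy =>
    LocalDim.one_le_dim_of_specializes ((genericPoint_spec X).specializes trivial) fun h => hηF (h ▸ hy)
  have hmaxpt : ∀ ξ ∈ F, ringKrullDim (X.presheaf.stalk ξ) = 1 → ∀ z ∈ F, z ⤳ ξ → z = ξ := fun ξ hξ hd z hz h => by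
    by_contra hne'
    have h2 := (add_le_add_left (hone z hz) 1).trans (CartierDecomp.succ_dim_le h hne')
    rw [hd] at h2
    exact absurd h2 (by decide)
  -- connectedness
  have hRn : Pi1.IsNormalScheme (Spec (CommRingCat.of R)) := by
    haveI : IsIntegrallyClosed (CommRingCat.of R) := inferInstanceAs (IsIntegrallyClosed R)
    exact fun q => ⟨inferInstance, Groth.L16.Connected.isIntegrallyClosed_stalk_Spec (CommRingCat.of R) q⟩
  haveI := Groth.L16.Connected.geometricallyConnected_fiber π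
    (Groth.L13.RatSing.isIso_app_of_isIso_restrict π hRn U hUne) (IsLocalRing.closedPoint R)
  have hconn : _root_.IsPreconnected F := by
    haveI : ConnectedSpace (π.fiber (IsLocalRing.closedPoint R)) :=
      GeometricallyConnected.connectedSpace_of_subsingleton (π.fiberToSpecResidueField _)
    show _root_.IsPreconnected (π ⁻¹' {IsLocalRing.closedPoint R})
    rw [← π.range_fiberι]
    exact isPreconnected_range (π.fiberι _).continuous
  -- a function vanishing at the closed point
  obtain ⟨a, ham, ha0⟩ := Submodule.exists_mem_ne_zero_of_ne_bot hm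
  obtain ⟨D, hD, ⟨iD⟩, hDsupp⟩ := exists_principal π a ha0 hη
  have hFD : ∀ y ∈ F, y ∈ (D.support : Set X) := fun y hy => (hDsupp y).2 (by
    rw [show π y = IsLocalRing.closedPoint R from hy]; exact ham)
  obtain ⟨z₀, hz₀F, hz₀a⟩ : ∃ z : X, z ∉ F ∧ a ∈ (π z).asIdeal := by
    obtain ⟨P, hP, -⟩ := Ideal.exists_minimalPrimes_le
      (show Ideal.span {a} ≤ IsLocalRing.maximalIdeal R from (Ideal.span_singleton_le_iff_mem _).2 ham)
    have hPh := Ideal.height_le_one_of_isPrincipal_of_mem_minimalPrimes (Ideal.span {a}) P hP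
    obtain ⟨z, -, hz⟩ : (⟨P, hP.1.1⟩ : Spec (CommRingCat.of R)) ∈ π '' Set.univ := by
      refine Specializes.mem_closed ?_ (π.isClosedMap _ isClosed_univ) ⟨genericPoint X, trivial, hη⟩
      exact (genericPoint_spec _).specializes trivial
    refine ⟨z, fun h => ?_, ?_⟩
    · have h2 : P = IsLocalRing.maximalIdeal R :=
        congrArg PrimeSpectrum.asIdeal (hz.symm.trans (show π z = IsLocalRing.closedPoint R from h))
      rw [h2] at hPh
      have h3 := IsLocalRing.maximalIdeal_height_eq_ringKrullDim (R := R)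
      rw [hdimR] at h3
      have h4 : (2 : WithBot ℕ∞) ≤ 1 := h3 ▸ (WithBot.coe_le_coe.2 hPh)
      exact absurd h4 (by decide)
    · rw [hz]; exact hP.1.2 (Ideal.mem_span_singleton_self a)
  have hz₀D : z₀ ∈ (D.support : Set X) := (hDsupp z₀).2 hz₀a
  -- points of dimension one in the fibre are not closed
  have hnc : ∀ ξ ∈ F, ringKrullDim (X.presheaf.stalk ξ) = 1 → ¬ IsClosed ({ξ} : Set X) := by
    intro ξ hξ hd hc
    have hFξ := eq_singleton_of_isolated hF hconn hξ hc (hmaxpt ξ hξ hd)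
    have hz : z₀ ⤳ ξ := by
      obtain ⟨w, hw, hwm⟩ : IsLocalRing.closedPoint R ∈ π '' closure {z₀} :=
        (IsLocalRing.specializes_closedPoint (π z₀)).mem_closed (π.isClosedMap _ isClosed_closure)
          ⟨z₀, subset_closure rfl, rfl⟩
      have : w ∈ ({ξ} : Set X) := hFξ ▸ (show w ∈ F from hwm)
      rw [Set.mem_singleton_iff] at this
      exact specializes_iff_mem_closure.2 (this ▸ hw)
    have h1 : (1 : WithBot ℕ∞) ≤ ringKrullDim (X.presheaf.stalk z₀) :=
      LocalDim.one_le_dim_of_specializes ((genericPoint_spec X).specializes trivial) fun h => by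
        refine Groth.L22.notMem_support_of_maximal hD (x := genericPoint X) (fun y hy => ?_) (h ▸ hz₀D)
        exact ((genericPoint_spec X).specializes trivial |>.antisymm hy).eq.symm
    have h2 := (add_le_add_left h1 1).trans (CartierDecomp.succ_dim_le hz fun h => hz₀F (h ▸ hξ))
    rw [hd] at h2
    exact absurd h2 (by decide)
  -- the orders along the curves
  let S : Set X := {ξ | ξ ∈ F ∧ ringKrullDim (X.presheaf.stalk ξ) = 1}
  have hSf : S.Finite := (finite_maximal hF).subset fun ξ hξ => ⟨hξ.1, hmaxpt ξ hξ.1 hξ.2⟩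
  choose W hW using fun x : X => show ∃ W : X.affineOpens, x ∈ W.1 from by
    obtain ⟨_, ⟨W, hW, rfl⟩, hxW, -⟩ :=
      X.isBasis_affineOpens.exists_subset_of_mem_open (Set.mem_univ x) isOpen_univ
    exact ⟨⟨W, hW⟩, hxW⟩
  have hdvr : ∀ y : X, ringKrullDim (X.presheaf.stalk y) = 1 → IsDiscreteValuationRing (X.presheaf.stalk y) :=
    fun y hy => by
      haveI := (hn y).2
      exact Groth.L18.ValCritEss.isDVR_of_dim_one hy
  have hord : ∀ (J : X.IdealSheafData), BlowUp.IsEffCartierIdeal J → ∀ ξ ∈ S, ∃ n : ℕ,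
      ∀ (V : X.affineOpens) (hV : ξ ∈ V.1),
        Div.stalkIdeal J V ξ hV = IsLocalRing.maximalIdeal (X.presheaf.stalk ξ) ^ n := by
    intro J hJ ξ hξ
    haveI := hdvr ξ hξ.2
    obtain ⟨V₀, hV₀, g, hg, hJV⟩ := hJ ξ
    have hgerm : X.presheaf.germ V₀.1 ξ hV₀ g ≠ 0 := fun h => by
      haveI : Nonempty (V₀.1 : X.Opens) := ⟨⟨ξ, hV₀⟩⟩
      exact nonZeroDivisors.ne_zero hg (germ_injective_of_isIntegral X ξ hV₀ (h.trans (map_zero _).symm))
    obtain ⟨ϖ, hϖ⟩ := IsDiscreteValuationRing.exists_irreducible (X.presheaf.stalk ξ)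
    obtain ⟨n, hn'⟩ := IsDiscreteValuationRing.associated_pow_irreducible hgerm hϖ
    refine ⟨n, fun V hV => ?_⟩
    have h0 : Div.stalkIdeal J V₀ ξ hV₀ = IsLocalRing.maximalIdeal (X.presheaf.stalk ξ) ^ n := by
      rw [Div.stalkIdeal, hJV, Ideal.map_span, Set.image_singleton, hϖ.maximalIdeal_eq, Ideal.span_singleton_pow,
        Ideal.span_singleton_eq_span_singleton]
      exact hn'
    rw [← h0]
    exact (Groth.L20.SeeNormal.sI_eq J V hV).symm.trans (Groth.L20.SeeNormal.sI_eq J V₀ hV₀)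
  choose! i hi using fun ξ (hξ : ξ ∈ S) => hord I hI ξ hξ
  choose! d hd using fun ξ (hξ : ξ ∈ S) => hord D hD ξ hξ
  have hpos : ∀ (J : X.IdealSheafData) (n : ℕ) (ξ : X),
      Div.stalkIdeal J (W ξ) ξ (hW ξ) = IsLocalRing.maximalIdeal (X.presheaf.stalk ξ) ^ n →
      ξ ∈ (J.support : Set X) → 0 < n := fun J n ξ h hmem => by
    refine Nat.pos_of_ne_zero fun h0 => ?_
    rw [mem_support_iff_stalk J (W ξ) ξ (hW ξ), h, h0, pow_zero, Ideal.one_eq_top] at hmem
    exact (IsLocalRing.maximalIdeal.isMaximal _).ne_top (top_le_iff.1 hmem)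
  have hdpos : ∀ ξ ∈ S, 0 < d ξ := fun ξ hξ => hpos D _ ξ (hd ξ hξ (W ξ) (hW ξ)) (hFD ξ hξ.1)
  obtain ⟨ξ₁, hξ₁S, hξ₁I⟩ : ∃ ξ ∈ S, ξ ∈ (I.support : Set X) := by
    obtain ⟨z, hz⟩ := hne
    obtain ⟨y, hy, -, hmax⟩ := CartierDecomp.exists_maximal_of_mem I.support.isClosed hz
    refine ⟨y, ⟨hZ hy, le_antisymm ?_ (hone y (hZ hy))⟩, hy⟩
    exact LocalDim.dim_le_one_of_locPrincipal (D := I) (fun x _ => by
      obtain ⟨V, hxV, f, -, hf⟩ := hI x; exact ⟨V, hxV, f, hf⟩) hy hmax
  obtain ⟨ξ₀, hξ₀, hξ₀max⟩ := Finset.exists_max_image hSf.toFinset (fun ξ => (i ξ : ℚ) / (d ξ : ℚ))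
    ⟨ξ₁, hSf.mem_toFinset.2 hξ₁S⟩
  rw [hSf.mem_toFinset] at hξ₀
  set p := i ξ₀
  set q := d ξ₀
  have hq : 0 < q := hdpos ξ₀ hξ₀
  have hcross : ∀ ξ ∈ S, i ξ * q ≤ p * d ξ := fun ξ hξ => by
    have h := hξ₀max ξ (hSf.mem_toFinset.2 hξ)
    rw [div_le_div_iff₀ (by exact_mod_cast hdpos ξ hξ) (by exact_mod_cast hq)] at h
    exact_mod_cast h
  have hp : 0 < p := by
    refine Nat.pos_of_ne_zero fun h0 => ?_
    have h := hcross ξ₁ hξ₁S
    rw [h0, zero_mul] at h
    have := Nat.mul_pos (hpos I _ ξ₁ (hi ξ₁ hξ₁S (W ξ₁) (hW ξ₁)) hξ₁I) hq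
    omega
  -- the residual divisor
  have hle : D ^ p ≤ I ^ q := le_of_codim_one hn (isEffCartier_pow hI q) fun V y hy hdy => by
    rw [stalkIdeal_pow, stalkIdeal_pow]
    by_cases hyF : y ∈ F
    · rw [hi y ⟨hyF, hdy⟩ V hy, hd y ⟨hyF, hdy⟩ V hy, ← pow_mul, ← pow_mul]
      refine Ideal.pow_le_pow_right ?_
      have := hcross y ⟨hyF, hdy⟩
      rwa [mul_comm p] at this
    · rw [Groth.L05.FibreDecomp.stalkIdeal_eq_top I V y hy fun h => hyF (hZ h), ← Ideal.one_eq_top, one_pow,
        Ideal.one_eq_top]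
      exact le_top
  set J := CartierDecomp.colon (D ^ p) (I ^ q)
  have hprod : I ^ q * J = D ^ p := CartierDecomp.mul_colon (isEffCartier_pow hI q) hle
  have hJ : BlowUp.IsEffCartierIdeal J :=
    Groth.L22.Ideals.isEffCartier_left_of_mul (J := I ^ q) (by rw [mul_comm, hprod]; exact isEffCartier_pow hD p)
  have hJξ₀ : ξ₀ ∉ (J.support : Set X) := fun h => by
    haveI := hdvr ξ₀ hξ₀.2
    have h1 := congrArg (fun K => Div.stalkIdeal K (W ξ₀) ξ₀ (hW ξ₀)) hprod
    simp only [stalkIdeal_mul, stalkIdeal_pow, hi ξ₀ hξ₀ (W ξ₀) (hW ξ₀), hd ξ₀ hξ₀ (W ξ₀) (hW ξ₀), ← pow_mul] at h1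
    rw [mul_comm (d ξ₀)] at h1
    have h2 : Div.stalkIdeal J (W ξ₀) ξ₀ (hW ξ₀) = 1 :=
      (mul_eq_left₀ (pow_ne_zero _ (IsDiscreteValuationRing.not_a_field _))).1 h1
    rw [mem_support_iff_stalk J (W ξ₀) ξ₀ (hW ξ₀), h2, Ideal.one_eq_top] at h
    exact (IsLocalRing.maximalIdeal.isMaximal _).ne_top (top_le_iff.1 h)
  -- the residual divisor misses the curves off it
  have hmiss : ∀ ξ ∈ S, ξ ∉ (J.support : Set X) → Disjoint (closure ({ξ} : Set X)) (J.support : Set X) := by
    intro ξ hξ hξJ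
    have hξI : ξ ∈ (I.support : Set X) := by
      have h := hFD ξ hξ.1
      rw [← Scheme.IdealSheafData.support_pow (I := D) p hp.ne', ← hprod, Scheme.IdealSheafData.support_mul,
        (Scheme.IdealSheafData.support_pow _ q hq.ne')] at h
      exact h.resolve_right hξJ
    let C : Closeds X := ⟨closure {ξ}, isClosed_closure⟩
    let K := Scheme.IdealSheafData.vanishingIdeal C
    have hKs : (K.support : Set X) = closure {ξ} := Scheme.IdealSheafData.coe_support_vanishingIdeal _
    haveI : AlgebraicGeometry.IsReduced K.subscheme := Groth.L18.isReduced_vanishingIdeal_subscheme C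
    obtain ⟨t₀, ht₀⟩ : ξ ∈ Set.range K.subschemeι := by rw [K.range_subschemeι, hKs]; exact subset_closure rfl
    have hgen' : IsGenericPoint t₀ (Set.univ : Set K.subscheme) := by
      rw [IsGenericPoint, Set.eq_univ_iff_forall]
      intro t
      rw [← specializes_iff_mem_closure, ← K.subschemeι.isEmbedding.isInducing.specializes_iff, ht₀]
      refine specializes_iff_mem_closure.2 ?_
      rw [← hKs, ← K.range_subschemeι]
      exact ⟨t, rfl⟩
    haveI : IrreducibleSpace K.subscheme := irreducibleSpace_def _ |>.2 hgen'.isIrreducible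
    haveI := AlgebraicGeometry.isIntegral_of_irreducibleSpace_of_isReduced K.subscheme
    have ht₀' : genericPoint K.subscheme = t₀ := (genericPoint_spec K.subscheme).eq hgen'
    let e := K.subschemeι
    have hrange : Set.range e = closure {ξ} := by rw [K.range_subschemeι, hKs]
    have hCF : ∀ c, e c ∈ F := fun c => by
      have h : e c ∈ closure {ξ} := hrange ▸ ⟨c, rfl⟩
      exact (specializes_iff_mem_closure.2 h).mem_closed hF hξ.1
    -- the curve over the residue field
    let j := Spec.map (CommRingCat.ofHom (IsLocalRing.residue R))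
    haveI : IsClosedImmersion j := IsClosedImmersion.spec_of_surjective _ Ideal.Quotient.mk_surjective
    haveI : AlgebraicGeometry.IsReduced (Spec (CommRingCat.of (IsLocalRing.ResidueField R))) := inferInstance
    have hjr : closure (Set.range j) = {IsLocalRing.closedPoint R} := by
      rw [j.isClosedEmbedding.isClosed_range.closure_eq]
      refine Set.eq_singleton_iff_unique_mem.2 ⟨⟨⟨⊥, Ideal.isPrime_bot⟩, ?_⟩, ?_⟩
      · exact PrimeSpectrum.ext Ideal.mk_ker
      · rintro _ ⟨w, rfl⟩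
        refine PrimeSpectrum.ext ?_
        show Ideal.comap (IsLocalRing.residue R) w.asIdeal = IsLocalRing.maximalIdeal R
        rw [(Ideal.eq_bot_or_top w.asIdeal).resolve_right w.2.ne_top]
        exact Ideal.mk_ker
    have hker : j.ker ≤ (e ≫ π).ker := by
      rw [Groth.L23.SchKer.ker_eq_vanishingIdeal j]
      refine Groth.L18.vanishingIdeal_le_ker (e ≫ π) _ ?_
      rintro _ ⟨c, rfl⟩
      show (e ≫ π) c ∈ closure (Set.range j)
      rw [hjr]
      exact hCF c
    let s := IsClosedImmersion.lift j (e ≫ π) hker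
    have hs : s ≫ j = e ≫ π := IsClosedImmersion.lift_fac _ _ _
    let κ := IsLocalRing.ResidueField R
    letI : K.subscheme.Over (Spec (CommRingCat.of κ)) := ⟨s⟩
    haveI : IsProper (K.subscheme ↘ Spec (CommRingCat.of κ)) := by
      haveI : IsProper (s ≫ j) := hs ▸ inferInstanceAs (IsProper (e ≫ π))
      exact IsProper.of_comp s j
    have hdK : topologicalKrullDim K.subscheme = 1 := by
      refine le_antisymm (Groth.L21.Nodal.topologicalKrullDim_le_one_of_chains fun x y z hxy hyz => ?_) ?_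
      · by_contra hne'
        push Not at hne'
        have h1 := CartierDecomp.succ_dim_le (hxy.map e.continuous) fun h => hne'.1 (e.isClosedEmbedding.injective h)
        have h2 := CartierDecomp.succ_dim_le (hyz.map e.continuous) fun h => hne'.2 (e.isClosedEmbedding.injective h)
        have h3 := ((add_le_add_left ((add_le_add_left (hone _ (hCF x)) 1).trans h1) 1).trans h2).trans (hdimX _)
        exact absurd h3 (by decide)
      · by_contra hlt
        refine hnc ξ hξ.1 hξ.2 ?_
        haveI := Groth.L21.RR.isNoetherian_of_proper (X := K.subscheme) κ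
        obtain ⟨c, hc, htc⟩ := Groth.L21.RR.exists_closed_specialization t₀
        have hct : t₀ = c := by
          by_contra hne'
          refine hlt ?_
          rw [Groth.L19.topologicalKrullDim_eq_krullDim]
          let _ := specializationOrder K.subscheme
          exact Order.one_le_krullDim_iff.2 ⟨c, t₀, lt_of_le_not_ge htc fun h => hne' (htc.antisymm h).eq⟩
        rw [← ht₀, ← Set.image_singleton, hct]
        exact e.isClosedEmbedding.isClosedMap _ hc
    have hI0 : degC κ e (ClSub.idealMod I) = 0 := by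
      have hIK : I ≤ K := Scheme.IdealSheafData.le_support_iff_le_vanishingIdeal.1 fun y hy =>
        (specializes_iff_mem_closure.2 (show y ∈ closure {ξ} from hy)).mem_closed I.support.isClosed hξI
      let θ : (Scheme.Modules.pullback e).obj (ClSub.idealMod I) ≅ Coh.structureModule K.subscheme :=
        (eqToIso (by rw [Scheme.IdealSheafData.inclusion_subschemeι hIK])) ≪≫
          ((Scheme.Modules.pullbackComp (Scheme.IdealSheafData.inclusion hIK) I.subschemeι).app (ClSub.idealMod I)).symm ≪≫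
          (Scheme.Modules.pullback (Scheme.IdealSheafData.inclusion hIK)).mapIso φ ≪≫
          Groth.L29.LocFree.pullbackUnitIso _
      rw [degC, deg_eq_curveDeg κ hdK, curveDeg_congr κ hdK θ, curveDeg_unit κ hdK]
    have hdI : dgI κ e I = 0 := by rw [dgI, hI0, neg_zero]
    have hdD : dgI κ e D = 0 := by
      rw [dgI, degC_congr κ e hdK iD, degC_unit κ e hdK, neg_zero]
    have hdJ : dgI κ e J = 0 := by
      have h := congrArg (dgI κ e) hprod
      rw [dgI_mul κ e hdK (isEffCartier_pow hI q) hJ, dgI_pow κ e hdK hI, dgI_pow κ e hdK hD, hdI, hdD,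
        mul_zero, mul_zero, zero_add] at h
      exact h
    have hη' : e (genericPoint K.subscheme) ∉ (J.support : Set X) := by rw [ht₀', ht₀]; exact hξJ
    have h := (dgI_nonneg_and_eq_zero_iff κ e hdK hJ hη').2.1 hdJ
    rwa [hrange] at h
  -- connectedness gives a contradiction
  let S₀ : Set X := {ξ | ξ ∈ S ∧ ξ ∉ (J.support : Set X)}
  let T : Set X := {y | (y ∈ F ∧ ∀ z ∈ F, z ⤳ y → z = y) ∧ y ∉ S₀}
  let C₀ : Set X := ⋃ ξ ∈ S₀, closure {ξ}
  let C₁ : Set X := (⋃ y ∈ T, closure {y}) ∪ (J.support : Set X)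
  have hC₀ : IsClosed C₀ := (hSf.subset fun _ h => h.1).isClosed_biUnion fun _ _ => isClosed_closure
  have hC₁ : IsClosed C₁ :=
    (((finite_maximal hF).subset fun _ h => h.1).isClosed_biUnion fun _ _ => isClosed_closure).union J.support.isClosed
  have hcov : F ⊆ C₀ ∪ C₁ := fun z hz => by
    obtain ⟨y, hy, hyz, hym⟩ := CartierDecomp.exists_maximal_of_mem hF hz
    by_cases hy0 : y ∈ S₀
    · exact Or.inl (Set.mem_iUnion₂.2 ⟨y, hy0, specializes_iff_mem_closure.1 hyz⟩)
    · exact Or.inr (Or.inl (Set.mem_iUnion₂.2 ⟨y, ⟨⟨hy, hym⟩, hy0⟩, specializes_iff_mem_closure.1 hyz⟩))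
  obtain ⟨w, hwF, hwJ⟩ : ∃ w ∈ F, w ∈ (J.support : Set X) := by
    have h : z₀ ∈ (J.support : Set X) := by
      have h1 := hz₀D
      rw [← Scheme.IdealSheafData.support_pow (I := D) p hp.ne', ← hprod, Scheme.IdealSheafData.support_mul,
        (Scheme.IdealSheafData.support_pow _ q hq.ne')] at h1
      exact h1.resolve_left fun h2 => hz₀F (hZ h2)
    obtain ⟨w, hw, hwm⟩ := (IsLocalRing.specializes_closedPoint (π z₀)).mem_closed
      (π.isClosedMap _ J.support.isClosed) ⟨z₀, h, rfl⟩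
    exact ⟨w, hwm, hw⟩
  obtain ⟨v, hvF, hv0, hv1⟩ := isPreconnected_closed_iff.1 hconn C₀ C₁ hC₀ hC₁ hcov
    ⟨ξ₀, hξ₀.1, Set.mem_iUnion₂.2 ⟨ξ₀, ⟨hξ₀, hJξ₀⟩, subset_closure rfl⟩⟩ ⟨w, hwF, Or.inr hwJ⟩
  obtain ⟨ξ, ⟨hξS, hξJ⟩, hvξ⟩ := Set.mem_iUnion₂.1 hv0
  have hdisj := Set.disjoint_left.1 (hmiss ξ hξS hξJ)
  rcases hv1 with hv1 | hv1
  · obtain ⟨t, ⟨⟨htF, htm⟩, htS⟩, hvt⟩ := Set.mem_iUnion₂.1 hv1
    have ht : ringKrullDim (X.presheaf.stalk t) ≠ 1 := fun h => by
      by_cases htJ : t ∈ (J.support : Set X)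
      · exact hdisj hvξ ((specializes_iff_mem_closure.2 hvt).mem_closed J.support.isClosed htJ)
      · exact htS ⟨⟨htF, h⟩, htJ⟩
    have hvt' : t = v := by
      by_contra hne'
      have h1 := (CartierDecomp.succ_dim_le (specializes_iff_mem_closure.2 hvt) hne').trans (hdimX _)
      exact ht (le_antisymm (le_one_of_add_one_le_two h1) (hone t htF))
    subst hvt'
    exact htS (htm ξ hξS.1 (specializes_iff_mem_closure.2 hvξ) ▸ ⟨hξS, hξJ⟩)
  · exact hdisj hvξ hv1

end Groth.L05.LocalForm
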