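import Groth.Agent.L05.InterPair.Main
import Groth.Agent.L05.InterPair.Model

/-!
# Proper curves over the closed point on a scheme over a local ring
-/

set_option autoImplicit false
set_option backward.isDefEq.respectTransparency false
set_option linter.style.haveILetI false
set_option linter.unusedSectionVars false

universe u

open CategoryTheory CategoryTheory.Limits AlgebraicGeometry TopologicalSpace
open Groth.L00.Tensor (tensorIso tensorAssoc tensorComm tensorUnitRight tensorUnitLeft)
open Groth.L05.InterPair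

noncomputable section

namespace Groth.L05.LocalForm

variable (k : Type u) [Field k] {Y E : Scheme.{u}} [IsIntegral E] (e : E ⟶ Y) [IsClosedImmersion e]
  [E.Over (Spec (CommRingCat.of k))] [IsProper (E ↘ Spec (CommRingCat.of k))]

/-- The degree of a module of the ambient scheme on the curve. -/
def degC (M : Y.Modules) : ℤ := Curv2.deg k E ((Scheme.Modules.pullback e).obj M) 1

variable (hd : topologicalKrullDim E = 1)
include hd

theorem deg_eq_curveDeg (M : E.Modules) : Curv2.deg k E M 1 = ArSurf.curveDeg k E M := by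
  rw [curveDeg_eq_euler k hd, Curv2.deg]
  push_cast
  ring

theorem degC_congr {M N : Y.Modules} (i : M ≅ N) : degC k e M = degC k e N := by
  rw [degC, degC, deg_eq_curveDeg k hd, deg_eq_curveDeg k hd]
  exact curveDeg_congr k hd ((Scheme.Modules.pullback e).mapIso i)

theorem degC_unit : degC k e (Coh.structureModule Y) = 0 := by
  rw [degC, deg_eq_curveDeg k hd, curveDeg_congr k hd (Groth.L29.LocFree.pullbackUnitIso e)]
  exact curveDeg_unit k hd

theorem degC_tensor {M N : Y.Modules} (hM : PicF.IsInvertible M) (hN : PicF.IsInvertible N) :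
    degC k e (CohB1.tensorMod M N) = degC k e M + degC k e N := by
  rw [degC, degC, degC, deg_eq_curveDeg k hd, deg_eq_curveDeg k hd, deg_eq_curveDeg k hd,
    curveDeg_congr k hd (Groth.L29.DC.PullTensor.pullTensor e M N).symm]
  exact curveDeg_tensor k hd (Groth.L18.Ample.isInvertible_pullback e hM)
    (Groth.L18.Ample.isInvertible_pullback e hN)

omit hd in
theorem isInvertible_inverse {D : Y.IdealSheafData} (hD : BlowUp.IsEffCartierIdeal D) {L : Y.Modules}
    (hL : ClSub.IsInverseOf L (ClSub.idealMod D)) : PicF.IsInvertible L := by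
  obtain ⟨i⟩ := hL
  exact Groth.L22.EnrSev.isInvertible_of_inverse ((Groth.Agent.L19.IdealInvertible.isEffCartier_iff D).2 hD)
    (tensorComm _ _ ≪≫ i)

/-- The degree of a divisor on the curve. -/
def dgI (D : Y.IdealSheafData) : ℤ := -degC k e (ClSub.idealMod D)

theorem degC_inverse {D : Y.IdealSheafData} (hD : BlowUp.IsEffCartierIdeal D) {L : Y.Modules}
    (hL : ClSub.IsInverseOf L (ClSub.idealMod D)) : degC k e L = dgI k e D := by
  have hi := (Groth.Agent.L19.IdealInvertible.isEffCartier_iff D).2 hD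
  have hLi := isInvertible_inverse hD hL
  obtain ⟨i⟩ := hL
  have h := degC_tensor k e hd hLi hi
  rw [degC_congr k e hd i, degC_unit k e hd] at h
  rw [dgI]
  linarith

theorem dgI_mul [IsIntegral Y] {I J : Y.IdealSheafData} (hI : BlowUp.IsEffCartierIdeal I)
    (hJ : BlowUp.IsEffCartierIdeal J) : dgI k e (I * J) = dgI k e I + dgI k e J := by
  obtain ⟨i⟩ := Groth.L03.BlowPt.nonempty_idealMod_mul hI hJ
  rw [dgI, degC_congr k e hd i, degC_tensor k e hd ((Groth.Agent.L19.IdealInvertible.isEffCartier_iff I).2 hI)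
    ((Groth.Agent.L19.IdealInvertible.isEffCartier_iff J).2 hJ), dgI, dgI]
  ring

theorem dgI_one [IsIntegral Y] : dgI k e 1 = 0 := by
  have h := dgI_mul k e hd (isEffCartier_one (Z := Y)) isEffCartier_one
  rw [one_mul] at h
  linarith

theorem dgI_pow [IsIntegral Y] {I : Y.IdealSheafData} (hI : BlowUp.IsEffCartierIdeal I) :
    ∀ m : ℕ, dgI k e (I ^ m) = m * dgI k e I
  | 0 => by rw [pow_zero, dgI_one k e hd, Nat.cast_zero, zero_mul]
  | m + 1 => by
    rw [pow_succ, dgI_mul k e hd (isEffCartier_pow hI m) hI, dgI_pow hI m]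
    push_cast
    ring

theorem dgI_prod [IsIntegral Y] {ι : Type*} (s : Finset ι) {I : ι → Y.IdealSheafData}
    (hI : ∀ i ∈ s, BlowUp.IsEffCartierIdeal (I i)) : dgI k e (∏ i ∈ s, I i) = ∑ i ∈ s, dgI k e (I i) := by
  classical
  induction s using Finset.induction_on with
  | empty => rw [Finset.prod_empty, Finset.sum_empty, dgI_one k e hd]
  | insert a t ha ih =>
    have ht : ∀ i ∈ t, BlowUp.IsEffCartierIdeal (I i) := fun i hi => hI i (Finset.mem_insert_of_mem hi)
    rw [Finset.prod_insert ha, Finset.sum_insert ha,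
      dgI_mul k e hd (hI a (Finset.mem_insert_self a t)) (isEffCartier_prod t ht), ih ht]

/-- The degree of a divisor not containing the curve is the length of its restriction. -/
theorem dgI_eq_finrank {D : Y.IdealSheafData} (hD : BlowUp.IsEffCartierIdeal D)
    (hη : e (genericPoint E) ∉ (D.support : Set Y)) :
    dgI k e D = Module.finrank k (Coh.HH E (ClSub.quotMod (D.comap e)) 0) := by
  have hE := isEffCartier_comap e hD hη
  have hDi := (Groth.Agent.L19.IdealInvertible.isEffCartier_iff D).2 hD
  have hEi := (Groth.Agent.L19.IdealInvertible.isEffCartier_iff _).2 hE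
  obtain ⟨α, -, hαepi, -⟩ := Groth.L07.PrinParts.exists_idealMap e D (D.comap e) rfl
  haveI := hαepi
  haveI : IsIso α :=
    Groth.L03.InterLen.isIso_of_epi_invertible α (Groth.L18.Ample.isInvertible_pullback e hDi) hEi
  obtain ⟨L, hL, ⟨i⟩⟩ := Groth.L08.Cube.exists_inverse hEi
  have h := curveDeg_inverse_idealMod k hd hE (L := L) ⟨tensorComm _ _ ≪≫ i⟩
  have h2 := curveDeg_of_inverse k hd hEi (L := L) ⟨tensorComm _ _ ≪≫ i⟩
  rw [dgI, degC, deg_eq_curveDeg k hd, curveDeg_congr k hd (asIso α), ← h, h2]

/-- Nonnegativity, with equality exactly for disjointness. -/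
theorem dgI_nonneg_and_eq_zero_iff {D : Y.IdealSheafData} (hD : BlowUp.IsEffCartierIdeal D)
    (hη : e (genericPoint E) ∉ (D.support : Set Y)) :
    0 ≤ dgI k e D ∧ (dgI k e D = 0 ↔ Disjoint (Set.range e) (D.support : Set Y)) := by
  haveI := Groth.L21.RR.isNoetherian_of_proper (X := E) k
  rw [dgI_eq_finrank k e hd hD hη]
  refine ⟨Int.natCast_nonneg _, ?_⟩
  set J := D.comap e with hJ
  have hJ0 : genericPoint E ∉ (J.support : Set E) := by
    rw [hJ, Scheme.IdealSheafData.support_comap]
    exact hη
  have hsc := Groth.L21.RR.suppClosed_quotMod_of_notMem hd.le J hJ0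
  rw [Int.natCast_eq_zero, Set.disjoint_left]
  haveI := Groth.L21.RR.finite_HH' k (Groth.L21.RR.isCoh_quotMod J) 0
  constructor
  · rintro h _ ⟨y, rfl⟩ hy
    haveI : Subsingleton (Coh.HH E (ClSub.quotMod J) 0) := Module.finrank_zero_iff.1 h
    have hyJ : y ∈ (J.support : Set E) := by
      rw [hJ, Scheme.IdealSheafData.support_comap]; exact hy
    rw [← J.range_subschemeι] at hyJ
    obtain ⟨z, -⟩ := hyJ
    letI : J.subscheme.Over (Spec (CommRingCat.of k)) := ⟨J.subschemeι ≫ (E ↘ Spec (CommRingCat.of k))⟩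
    haveI : IsLocallyNoetherian J.subscheme := LocallyOfFiniteType.isLocallyNoetherian J.subschemeι
    haveI : E.IsSeparated := ⟨by
      rw [← terminal.comp_from (E ↘ Spec (CommRingCat.of k))]; infer_instance⟩
    obtain ⟨θ⟩ := Groth.L03.Euler.exists_HH_push_linearEquiv (k := k) J.subschemeι (Coh.structureModule _)
      (Groth.L16.CohClosedPush.isCoh_structure (X := J.subscheme)).1 rfl 0
    haveI : Subsingleton (Coh.HH E ((Coh.push J.subschemeι).obj (Coh.structureModule _)) 0) := by
      exact ‹Subsingleton (Coh.HH E (ClSub.quotMod J) 0)›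
    haveI : Subsingleton (Coh.HH J.subscheme (Coh.structureModule _) 0) := θ.toEquiv.subsingleton
    haveI : Subsingleton Γ(J.subscheme, ⊤) :=
      (Groth.L16.HomSh.h0Equiv (Coh.structureModule J.subscheme)).symm.injective.subsingleton
    exact not_subsingleton (J.subscheme.presheaf.stalk z)
      ((J.subscheme.presheaf.germ ⊤ z trivial).hom.codomain_trivial)
  · intro h
    have hempty : IsEmpty J.subscheme := ⟨fun z => by
      have hz : J.subschemeι z ∈ (J.support : Set E) := by rw [← J.range_subschemeι]; exact ⟨z, rfl⟩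
      generalize J.subschemeι z = y at hz
      rw [hJ, Scheme.IdealSheafData.support_comap] at hz
      exact h ⟨y, rfl⟩ hz⟩
    haveI : Subsingleton (Coh.HH E (ClSub.quotMod J) 0) := by
      refine ⟨fun a b => (Groth.L21.RR.e0 (ClSub.quotMod J)).injective ?_⟩
      exact TopCat.Presheaf.section_ext ((Groth.L21.Mod.toAbSh E).obj (ClSub.quotMod J)) ⊤ _ _
        fun y _ => (Groth.L21.RR.subsingleton_stalk_quotMod J (fun hy => by
          rw [← J.range_subschemeι] at hy
          obtain ⟨z, -⟩ := hy
          exact hempty.false z)).elim _ _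
    exact Module.finrank_zero_of_subsingleton

omit hd in
/-- The intersection of two curves over the same point is symmetric. -/
theorem finrank_comap_symm {E' S : Scheme.{u}} (e' : E' ⟶ Y) [IsClosedImmersion e']
    [E'.Over (Spec (CommRingCat.of k))] [IsProper (E' ↘ Spec (CommRingCat.of k))]
    (p : Y ⟶ S) (j : Spec (CommRingCat.of k) ⟶ S) [Mono j]
    (he : e ≫ p = (E ↘ Spec (CommRingCat.of k)) ≫ j)
    (he' : e' ≫ p = (E' ↘ Spec (CommRingCat.of k)) ≫ j) :
    Module.finrank k (Coh.HH E (ClSub.quotMod (e'.ker.comap e)) 0) =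
      Module.finrank k (Coh.HH E' (ClSub.quotMod (e.ker.comap e')) 0) := by
  set A := e'.ker.comap e
  set B := e.ker.comap e'
  haveI := Groth.L21.RR.isNoetherian_of_proper (X := E) k
  haveI := Groth.L21.RR.isNoetherian_of_proper (X := E') k
  letI : A.subscheme.Over (Spec (CommRingCat.of k)) := ⟨A.subschemeι ≫ (E ↘ Spec (CommRingCat.of k))⟩
  letI : B.subscheme.Over (Spec (CommRingCat.of k)) := ⟨B.subschemeι ≫ (E' ↘ Spec (CommRingCat.of k))⟩
  haveI : IsLocallyNoetherian A.subscheme := LocallyOfFiniteType.isLocallyNoetherian A.subschemeι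
  haveI : IsLocallyNoetherian B.subscheme := LocallyOfFiniteType.isLocallyNoetherian B.subschemeι
  haveI : E.IsSeparated := ⟨by rw [← terminal.comp_from (E ↘ Spec (CommRingCat.of k))]; infer_instance⟩
  haveI : E'.IsSeparated := ⟨by rw [← terminal.comp_from (E' ↘ Spec (CommRingCat.of k))]; infer_instance⟩
  haveI : B.subscheme.IsSeparated := ⟨by rw [← terminal.comp_from B.subschemeι]; infer_instance⟩
  obtain ⟨e₁⟩ := Groth.L03.Euler.exists_HH_push_linearEquiv (k := k) A.subschemeι (Coh.structureModule _)
    (Groth.L16.CohClosedPush.isCoh_structure (X := A.subscheme)).1 rfl 0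
  obtain ⟨e₂⟩ := Groth.L03.Euler.exists_HH_push_linearEquiv (k := k) B.subschemeι (Coh.structureModule _)
    (Groth.L16.CohClosedPush.isCoh_structure (X := B.subscheme)).1 rfl 0
  let a := A.subschemeι ≫ e
  let b := B.subschemeι ≫ e'
  have hk : b.ker = a.ker := by
    show B.map e' = A.map e
    rw [map_comap_closed, map_comap_closed, sup_comm]
  haveI := IsClosedImmersion.isIso_lift b a hk
  let θ := IsClosedImmersion.lift b a hk.le
  have hθ : θ ≫ b = a := IsClosedImmersion.lift_fac _ _ _
  have hover : θ ≫ (B.subscheme ↘ Spec (CommRingCat.of k)) = A.subscheme ↘ Spec (CommRingCat.of k) := by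
    rw [← cancel_mono j]
    show (θ ≫ B.subschemeι ≫ (E' ↘ Spec (CommRingCat.of k))) ≫ j =
      (A.subschemeι ≫ (E ↘ Spec (CommRingCat.of k))) ≫ j
    simp only [Category.assoc, ← he, ← he']
    simpa [a, b] using congrArg (fun t => t ≫ p) hθ
  obtain ⟨e₃⟩ := Groth.L03.Euler.exists_HH_push_linearEquiv (k := k) θ (Coh.structureModule _)
    (Groth.L16.CohClosedPush.isCoh_structure (X := A.subscheme)).1 hover 0
  haveI := Groth.L20.DescLocus.isIso_unitToPush θ (fun U => inferInstance)
  calc Module.finrank k (Coh.HH E (ClSub.quotMod A) 0)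
      = Module.finrank k (Coh.HH A.subscheme (Coh.structureModule _) 0) := e₁.finrank_eq.symm
    _ = Module.finrank k (Coh.HH B.subscheme ((Coh.push θ).obj (Coh.structureModule _)) 0) := e₃.finrank_eq
    _ = Module.finrank k (Coh.HH B.subscheme (Coh.structureModule _) 0) :=
        (Groth.L03.Euler.finrank_HH_of_iso (k := k) (asIso (ClSub.unitToPush θ)) 0).symm
    _ = _ := e₂.finrank_eq

end Groth.L05.LocalForm
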