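import Groth.Agent.L05.LocalForm.Curve
import Groth.Agent.L05.PtSeq.Invertible
import Groth.Agent.L05.PtSeq.Birational
import Groth.Agent.L13.CurveContr.NegDef
import Groth.Agent.L07.DimToolkit

/-!
# Curves contracted by a modification of a normal two-dimensional local ring
-/

set_option autoImplicit false
set_option backward.isDefEq.respectTransparency false
set_option linter.style.haveILetI false
set_option linter.unusedSectionVars false

universe u

open CategoryTheory CategoryTheory.Limits AlgebraicGeometry TopologicalSpace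
open Groth.L05.InterPair

noncomputable section

namespace Groth.L05.LocalForm

variable {R : Type u} [CommRing R]

theorem le_one_of_add_one_le_two {d : WithBot ℕ∞} (h : d + 1 ≤ 2) : d ≤ 1 := by
  induction d with
  | bot => exact bot_le
  | coe a =>
    have h' : a + 1 ≤ 1 + 1 := WithBot.coe_le_coe.1 h
    exact WithBot.coe_le_coe.2 ((ENat.add_le_add_iff_right ENat.one_ne_top).1 h')

/-- The points above a prime avoiding `a` are where `a` is a unit. -/
theorem notMem_iff_isUnit {Y : Scheme.{u}} (π : Y ⟶ Spec (CommRingCat.of R)) (x : Y) (a : R) :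
    a ∉ (π x).asIdeal ↔ IsUnit (Y.presheaf.germ ⊤ x trivial (Coh.toGlobal π a)) := by
  rw [← PrimeSpectrum.mem_basicOpen]
  have h : π ⁻¹ᵁ (Spec (CommRingCat.of R)).basicOpen
      ((Scheme.ΓSpecIso (CommRingCat.of R)).inv a) = Y.basicOpen (Coh.toGlobal π a) :=
    Scheme.preimage_basicOpen_top _ _
  rw [basicOpen_eq_of_affine] at h
  have h' := SetLike.ext_iff.1 h x
  rw [Scheme.mem_basicOpen_top] at h'
  exact h'

variable [IsDomain R] [IsNoetherianRing R] [IsLocalRing R] {Y : Scheme.{u}}
  (π : Y ⟶ Spec (CommRingCat.of R)) [IsProper π] [IsIntegral Y]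

/-- A modification of a two-dimensional ring has local rings of dimension at most two. -/
theorem dim_stalk_le_two (hdimR : ringKrullDim R = 2) (U : (Spec (CommRingCat.of R)).Opens)
    (hU : (U : Set (Spec (CommRingCat.of R))).Nonempty) [IsIso (π ∣_ U)] (y : Y) :
    ringKrullDim (Y.presheaf.stalk y) ≤ 2 := by
  haveI : IsDomain (CommRingCat.of R) := inferInstanceAs (IsDomain R)
  haveI : IsNoetherianRing (CommRingCat.of R) := inferInstanceAs (IsNoetherianRing R)
  haveI : IsLocallyNoetherian Y := LocallyOfFiniteType.isLocallyNoetherian π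
  obtain ⟨hη, hbij⟩ := Groth.L13.RatSing.birational_of_isIso_restrict π U hU
  letI := (π.residueFieldMap (genericPoint Y)).hom.toAlgebra
  haveI : Module.Finite ((Spec (CommRingCat.of R)).residueField (π (genericPoint Y)))
      (Y.residueField (genericPoint Y)) := by
    refine Module.Finite.of_surjective
      (Algebra.linearMap ((Spec (CommRingCat.of R)).residueField (π (genericPoint Y))) (Y.residueField (genericPoint Y))) fun v => ?_
    obtain ⟨v, rfl⟩ := Scheme.residue_surjective Y (genericPoint Y) v
    obtain ⟨w, rfl⟩ := hbij.2 v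
    exact ⟨(Spec (CommRingCat.of R)).residue _ w,
      congr($(Scheme.residue_residueFieldMap π (genericPoint Y)) w)⟩
  haveI : Algebra.IsAlgebraic ((Spec (CommRingCat.of R)).residueField (π (genericPoint Y)))
      (Y.residueField (genericPoint Y)) := Algebra.IsAlgebraic.of_finite _ _
  have hN : Groth.L22.Cyc.rtrdeg π (genericPoint Y) = ((0 : ℕ) : Cardinal.{u}) := by
    rw [Nat.cast_zero]; exact trdeg_eq_zero
  obtain ⟨n, -, hn⟩ := Groth.L07.DimToolkit.exists_fdim_rtrdeg π y
  have h := (genericPoint_spec Y).specializes (show y ∈ Set.univ from trivial)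
  have key := (Groth.L22.DimFormula.scheme_dim_formula π h hn hN).1
  rw [Groth.L07.DimToolkit.dim_locQuot_genericPoint y h, Nat.cast_zero, add_zero] at key
  refine ((le_add_of_nonneg_right (Nat.cast_nonneg n)).trans key).trans ((Groth.L07.DimToolkit.dim_locQuot_le _ _ _).trans ?_)
  refine (Groth.L15.CohFlat.ringKrullDim_stalk_le _).trans ?_
  exact (PrimeSpectrum.topologicalKrullDim_eq_ringKrullDim _).le.trans hdimR.le

omit [IsLocalRing R] [IsProper π] in
theorem exists_principal (a : R) (ha : a ≠ 0) (hη : π (genericPoint Y) = genericPoint (Spec (CommRingCat.of R))) :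
    ∃ D : Y.IdealSheafData, BlowUp.IsEffCartierIdeal D ∧
      Nonempty (ClSub.idealMod D ≅ Coh.structureModule Y) ∧
      ∀ y, y ∈ (D.support : Set Y) ↔ a ∈ (π y).asIdeal := by
  haveI : IsDomain (CommRingCat.of R) := inferInstanceAs (IsDomain R)
  let S := Spec (CommRingCat.of R)
  let T : S.affineOpens := ⟨⊤, isAffineOpen_top S⟩
  let c := (Scheme.ΓSpecIso (CommRingCat.of R)).inv
  let I := Curv2.idealSheaf R (Ideal.span {a})
  let res : ∀ U : Y.affineOpens, R →+* Γ(Y, U.1) := fun U =>
    (Y.presheaf.map (homOfLE (le_top : U.1 ≤ ⊤)).op).hom.comp (Coh.toGlobal π)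
  have hideal : ∀ U : Y.affineOpens, (I.comap π).ideal U = Ideal.span {res U a} := fun U => by
    rw [Groth.L20.AffBlow.ideal_comap_idealSheaf π _ U, Ideal.map_span, Set.image_singleton]
    rfl
  have hgerm : ∀ (U : Y.affineOpens) (y : Y) (hy : y ∈ U.1),
      Y.presheaf.germ U.1 y hy (res U a) = Y.presheaf.germ ⊤ y trivial (Coh.toGlobal π a) := fun U y hy =>
    Y.presheaf.germ_res_apply (homOfLE (le_top : U.1 ≤ ⊤)) y hy _
  have hηa : a ∉ (π (genericPoint Y)).asIdeal := by
    rw [hη, genericPoint_eq_bot_of_affine]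
    exact ha
  have hcart : BlowUp.IsEffCartierIdeal (I.comap π) := fun y => by
    obtain ⟨_, ⟨W, hW, rfl⟩, hyW, -⟩ :=
      Y.isBasis_affineOpens.exists_subset_of_mem_open (Set.mem_univ y) isOpen_univ
    haveI : Nonempty (W : Y.Opens) := ⟨⟨y, hyW⟩⟩
    refine ⟨⟨W, hW⟩, hyW, res ⟨W, hW⟩ a, mem_nonZeroDivisors_of_ne_zero fun h0 => ?_, hideal _⟩
    have hgW : genericPoint Y ∈ W := ((genericPoint_spec Y).specializes trivial).mem_open W.2 hyW
    have h := (notMem_iff_isUnit π (genericPoint Y) a).1 hηa
    rw [← hgerm ⟨W, hW⟩ _ hgW, h0, map_zero] at h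
    exact not_isUnit_zero h
  refine ⟨I.comap π, hcart, ?_, fun y => ?_⟩
  · have hI : I.ideal T = Ideal.span {c a} := by
      show (Curv2.idealSheaf R (Ideal.span {a})).ideal ⟨⊤, isAffineOpen_top S⟩ = _
      rw [Curv2.idealSheaf, Scheme.IdealSheafData.ofIdealTop_ideal, Ideal.map_span, Set.image_singleton]
      simp only [Ideal.map_span, Set.image_singleton]
      exact congrArg (fun t => Ideal.span {t}) (by simp; rfl)
    obtain ⟨m, hm⟩ := Groth.L07.ParafPrincipal.isGen_idealMod I T (c a) hI
      fun h => ha ((ConcreteCategory.bijective_of_isIso c).1 (h.trans (map_zero _).symm))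
    obtain ⟨e⟩ := Groth.L21.PicExt.nonempty_iso_of_isFrame_top (s := m) hm
    obtain ⟨α, -, hαepi, -⟩ := Groth.L07.PrinParts.exists_idealMap π I (I.comap π) rfl
    haveI := hαepi
    haveI : IsIso α := Groth.L03.InterLen.isIso_of_epi_invertible α
      (Groth.L18.Ample.isInvertible_pullback π
        (Groth.L18.Ample.isInvertible_of_iso e (Groth.L18.Ample.isInvertible_structureModule _)))
      ((Groth.Agent.L19.IdealInvertible.isEffCartier_iff _).2 hcart)
    exact ⟨(asIso α).symm ≪≫ (Scheme.Modules.pullback π).mapIso e.symm ≪≫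
      Groth.L29.LocFree.pullbackUnitIso π⟩
  · obtain ⟨_, ⟨W, hW, rfl⟩, hyW, -⟩ :=
      Y.isBasis_affineOpens.exists_subset_of_mem_open (Set.mem_univ y) isOpen_univ
    rw [Groth.L22.CartierDecomp.mem_support_iff (U := ⟨W, hW⟩) hyW, hideal,
      Ideal.span_singleton_le_iff_mem, ← not_iff_not, notMem_iff_isUnit π y a, ← hgerm ⟨W, hW⟩ y hyW,
      ← Scheme.mem_basicOpen]
    exact (Groth.L22.LocalDim.mem_basicOpen_iff hW hyW _).symm

/-- The form of the contracted curves of a modification of a normal surface singularity is negative definite. -/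
theorem negDef [IsIntegrallyClosed R] (hdimR : ringKrullDim R = 2)
    (hreg : ∀ y : Y, IsRegularLocalRing (Y.presheaf.stalk y))
    (U : (Spec (CommRingCat.of R)).Opens)
    (hU : ∀ p : Spec (CommRingCat.of R), p ∈ U ↔ p ≠ IsLocalRing.closedPoint R) [IsIso (π ∣_ U)]
    {r : ℕ} (E : Fin r → Scheme.{u}) (e : ∀ i, E i ⟶ Y) [∀ i, IsClosedImmersion (e i)]
    [∀ i, IsIntegral (E i)] (hE : ∀ i, topologicalKrullDim (E i) = 1)
    (s : ∀ i, E i ⟶ Spec (CommRingCat.of (IsLocalRing.ResidueField R)))
    (hs : ∀ i, e i ≫ π = s i ≫ Spec.map (CommRingCat.ofHom (IsLocalRing.residue R)))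
    (hdist : ∀ i j, i ≠ j → Set.range (e i).base ≠ Set.range (e j).base)
    (hcov : ∀ y : Y, π.base y ∉ U → ∃ i, y ∈ Set.range (e i).base)
    (L : Fin r → Y.Modules) (hL : ∀ j, ClSub.IsInverseOf (L j) (ClSub.idealMod (e j).ker))
    (x : Fin r → ℤ) (hx : x ≠ 0) :
    ∑ i, ∑ j, x i * x j *
      @Curv2.deg (IsLocalRing.ResidueField R) _ (E i) ⟨s i⟩ ((Scheme.Modules.pullback (e i)).obj (L j)) 1 < 0 := by
  classical
  haveI : IsDomain (CommRingCat.of R) := inferInstanceAs (IsDomain R)
  haveI : IsNoetherianRing (CommRingCat.of R) := inferInstanceAs (IsNoetherianRing R)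
  haveI : IsLocallyNoetherian Y := LocallyOfFiniteType.isLocallyNoetherian π
  haveI : AlgebraicGeometry.IsNoetherian Y :=
    { toIsLocallyNoetherian := inferInstance
      toCompactSpace := QuasiCompact.compactSpace_of_compactSpace π }
  let j := Spec.map (CommRingCat.ofHom (IsLocalRing.residue R))
  haveI : IsClosedImmersion j := IsClosedImmersion.spec_of_surjective _ Ideal.Quotient.mk_surjective
  letI : ∀ i, (E i).Over (Spec (CommRingCat.of (IsLocalRing.ResidueField R))) := fun i => ⟨s i⟩
  haveI : ∀ i, IsProper (E i ↘ Spec (CommRingCat.of (IsLocalRing.ResidueField R))) := fun i => by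
    haveI : IsProper (s i ≫ j) := hs i ▸ inferInstanceAs (IsProper (e i ≫ π))
    exact IsProper.of_comp (s i) j
  -- the closed point
  have hpt : ∀ i c, π (e i c) = IsLocalRing.closedPoint R := fun i c => by
    rw [← Scheme.Hom.comp_apply, hs i, Scheme.Hom.comp_apply]
    refine PrimeSpectrum.ext ?_
    generalize s i c = q
    show Ideal.comap (IsLocalRing.residue R) q.asIdeal = IsLocalRing.maximalIdeal R
    rw [(Ideal.eq_bot_or_top q.asIdeal).resolve_right q.2.ne_top]
    exact Ideal.mk_ker
  have hm : IsLocalRing.maximalIdeal R ≠ ⊥ := fun h => by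
    have := ringKrullDim_eq_zero_of_isField (IsLocalRing.isField_iff_maximalIdeal_eq.2 h)
    rw [hdimR] at this
    exact absurd this (by decide)
  have hgenU : genericPoint (Spec (CommRingCat.of R)) ∈ U := by
    rw [hU, genericPoint_eq_bot_of_affine]
    exact fun h => hm (congrArg PrimeSpectrum.asIdeal h).symm
  have hUne : (U : Set (Spec (CommRingCat.of R))).Nonempty := ⟨_, hgenU⟩
  obtain ⟨hη, -⟩ := Groth.L13.RatSing.birational_of_isIso_restrict π U hUne
  have hdimY := dim_stalk_le_two π hdimR U hUne
  -- generic points of the curves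
  let ξ : Fin r → Y := fun i => e i (genericPoint (E i))
  have hrange : ∀ i, Set.range (e i) = closure {ξ i} := fun i => by
    rw [← Set.image_univ, ← (genericPoint_spec (E i)).def,
      ← (e i).isClosedEmbedding.closure_image_eq, Set.image_singleton]
  have hne : ∀ i, ξ i ≠ genericPoint Y := fun i h => by
    have h1 := hpt i (genericPoint (E i))
    rw [show e i (genericPoint (E i)) = genericPoint Y from h, hη] at h1
    exact (hU _).1 hgenU h1
  have hdimξ : ∀ i, ringKrullDim (Y.presheaf.stalk (ξ i)) = 1 := fun i => by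
    refine le_antisymm ?_ ?_
    · obtain ⟨c, hc, hcne⟩ : ∃ c : E i, IsClosed ({c} : Set (E i)) ∧ c ≠ genericPoint (E i) := by
        haveI := Groth.L21.RR.isNoetherian_of_proper (X := E i) (IsLocalRing.ResidueField R)
        obtain ⟨c, hc, -⟩ := Groth.L21.RR.exists_closed_specialization (genericPoint (E i))
        refine ⟨c, hc, fun h => ?_⟩
        have huniv : ∀ z : E i, z = c := fun z =>
          hc.closure_eq.le ((h ▸ (genericPoint_spec (E i)).specializes trivial : c ⤳ z).mem_closure)
        haveI : Subsingleton (E i) := ⟨fun a b => (huniv a).trans (huniv b).symm⟩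
        haveI : DiscreteTopology (E i) := Subsingleton.discreteTopology
        have := topologicalKrullDim_zero_of_discreteTopology (E i)
        rw [hE i] at this
        exact absurd this (by decide)
      have h := Groth.L22.CartierDecomp.succ_dim_le (y := ξ i) (z := e i c)
        (((genericPoint_spec (E i)).specializes trivial).map (e i).continuous)
        fun h => hcne ((e i).isClosedEmbedding.injective h.symm)
      exact le_one_of_add_one_le_two (h.trans (hdimY _))
    · exact Groth.L22.LocalDim.one_le_dim_of_specializes ((genericPoint_spec Y).specializes trivial) (hne i).symm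
  have hξinj : ∀ i k, ξ k ⤳ ξ i → k = i := fun i k h => by
    by_contra hki
    have hξne : ξ k ≠ ξ i := fun h' => hdist k i hki (by rw [hrange, hrange, h'])
    have h2 := Groth.L22.CartierDecomp.succ_dim_le h hξne
    rw [hdimξ, hdimξ] at h2
    exact absurd h2 (by decide)
  -- the curves as divisors
  haveI : ∀ i, IsIntegral (e i).ker.subscheme := fun i => by
    haveI : Nonempty (e i).ker.subscheme := ⟨(e i).toImage (genericPoint (E i))⟩
    exact isIntegral_of_isOpenImmersion (inv (e i).toImage)
  have hsupp : ∀ i, ((e i).ker.support : Set Y) = Set.range (e i) := fun i => by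
    rw [Scheme.Hom.support_ker, (e i).isClosedEmbedding.isClosed_range.closure_eq]
  have hgen : ∀ i, IsGenericPoint (ξ i) ((e i).ker.support : Set Y) := fun i => by
    rw [IsGenericPoint, hsupp, hrange]
  have hcart : ∀ i, BlowUp.IsEffCartierIdeal (e i).ker := fun i => by
    obtain ⟨D, hD, hDi, hDg⟩ := Groth.L05.PtSeq.isEffCartier_vanishing hreg (hdimξ i)
    haveI := hDi
    rwa [show (e i).ker = D from le_antisymm
      (Groth.L22.CartierDecomp.le_of_generic_mem hDg (hgen i).mem)
      (Groth.L22.CartierDecomp.le_of_generic_mem (hgen i) hDg.mem)]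
  -- the divisor of a function
  obtain ⟨a, ham, ha0⟩ := Submodule.exists_mem_ne_zero_of_ne_bot hm
  obtain ⟨D, hD, ⟨iD⟩, hDsupp⟩ := exists_principal π a ha0 hη
  obtain ⟨m, H, hprod, hH⟩ := Groth.L22.CartierDecomp.exists_decomp (fun i => (e i).ker) hcart
    (fun i => inferInstance) D fun y hy h => Groth.L22.notMem_support_of_maximal hD hy h
  rw [Finsupp.prod_fintype _ _ fun i => pow_zero _] at hprod
  have hHc : BlowUp.IsEffCartierIdeal H :=
    Groth.L22.Ideals.isEffCartier_left_of_mul (J := ∏ i, (e i).ker ^ m i) (by rw [mul_comm, hprod]; exact hD)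
  have hHξ : ∀ i, ξ i ∉ (H.support : Set Y) := fun i => hH i _ (hgen i)
  -- support of the product
  have hprodsupp : ∀ (t : Finset (Fin r)) (y : Y), y ∈ ((∏ i ∈ t, (e i).ker ^ m i).support : Set Y) →
      ∃ i, 0 < m i ∧ y ∈ Set.range (e i) := by
    intro t
    induction t using Finset.induction_on with
    | empty =>
      intro y hy
      rw [Finset.prod_empty] at hy
      exact absurd hy (notMem_support_one y)
    | insert b t hb ih =>
      intro y hy
      rw [Finset.prod_insert hb, Scheme.IdealSheafData.support_mul] at hy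
      rcases hy with hy | hy
      · rcases Nat.eq_zero_or_pos (m b) with h0 | h0
        · rw [h0, pow_zero] at hy
          exact absurd hy (notMem_support_one y)
        · refine ⟨b, h0, ?_⟩
          rw [← hsupp]
          generalize hn : m b = n at hy h0
          clear hn
          induction n with
          | zero => exact absurd h0 (lt_irrefl 0)
          | succ n ihn =>
            rw [pow_succ, Scheme.IdealSheafData.support_mul] at hy
            rcases hy with hy | hy
            · rcases Nat.eq_zero_or_pos n with h1 | h1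
              · rw [h1, pow_zero] at hy
                exact absurd hy (notMem_support_one y)
              · exact ihn hy h1
            · exact hy
      · exact ih y hy
  have hsplit : ∀ y : Y, a ∈ (π y).asIdeal → (∃ i, 0 < m i ∧ y ∈ Set.range (e i)) ∨ y ∈ (H.support : Set Y) := by
    intro y hy
    have h := (hDsupp y).2 hy
    rw [← hprod, Scheme.IdealSheafData.support_mul] at h
    rcases h with h | h
    · exact Or.inl (hprodsupp _ y h)
    · exact Or.inr h
  have hmpos : ∀ i, 0 < m i := fun i => by
    rcases hsplit (ξ i) (by rw [hpt i]; exact ham) with ⟨k, hk, hmem⟩ | h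
    · rw [hrange] at hmem
      exact hξinj i k (specializes_iff_mem_closure.2 hmem) ▸ hk
    · exact absurd h (hHξ i)
  -- the horizontal part is nonempty
  obtain ⟨z₀, hz₀U, hz₀H⟩ : ∃ z : Y, π z ∈ U ∧ z ∈ (H.support : Set Y) := by
    obtain ⟨P, hP, hPle⟩ := Ideal.exists_minimalPrimes_le
      (show Ideal.span {a} ≤ IsLocalRing.maximalIdeal R from (Ideal.span_singleton_le_iff_mem _).2 ham)
    have hPh := Ideal.height_le_one_of_isPrincipal_of_mem_minimalPrimes (Ideal.span {a}) P hP
    have hPU : (⟨P, hP.1.1⟩ : Spec (CommRingCat.of R)) ∈ U := (hU _).2 fun h => by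
      have h2 : P = IsLocalRing.maximalIdeal R := congrArg PrimeSpectrum.asIdeal h
      rw [h2] at hPh
      have h3 := IsLocalRing.maximalIdeal_height_eq_ringKrullDim (R := R)
      rw [hdimR] at h3
      have h4 : (2 : WithBot ℕ∞) ≤ 1 := h3 ▸ (WithBot.coe_le_coe.2 hPh)
      exact absurd h4 (by decide)
    obtain ⟨⟨z, hzU⟩, hz⟩ := (π ∣_ U).surjective ⟨_, hPU⟩
    have hπz : π z = ⟨P, hP.1.1⟩ := by
      have := congrArg Subtype.val hz
      rwa [morphismRestrict_base_coe] at this
    refine ⟨z, by rw [hπz]; exact hPU, ?_⟩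
    rcases hsplit z (by rw [hπz]; exact hP.1.2 (Ideal.mem_span_singleton_self a)) with ⟨i, -, c, hc⟩ | h
    · exact absurd (hc ▸ hpt i c) ((hU _).1 (by rw [hπz]; exact hPU))
    · exact h
  obtain ⟨d, hdH, hdc⟩ : ∃ d ∈ (H.support : Set Y), π d = IsLocalRing.closedPoint R := by
    have himg := π.isClosedMap _ H.support.isClosed
    exact (IsLocalRing.specializes_closedPoint (π z₀)).mem_closed himg ⟨z₀, hz₀H, rfl⟩
  -- connectedness
  have hRn : Pi1.IsNormalScheme (Spec (CommRingCat.of R)) := by
    haveI : IsIntegrallyClosed (CommRingCat.of R) := inferInstanceAs (IsIntegrallyClosed R)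
    exact fun q => ⟨inferInstance, Groth.L16.Connected.isIntegrallyClosed_stalk_Spec (CommRingCat.of R) q⟩
  haveI := Groth.L16.Connected.geometricallyConnected_fiber π
    (Groth.L13.RatSing.isIso_app_of_isIso_restrict π hRn U hUne) (IsLocalRing.closedPoint R)
  have hconn : _root_.IsPreconnected (π ⁻¹' {IsLocalRing.closedPoint R}) := by
    haveI : ConnectedSpace (π.fiber (IsLocalRing.closedPoint R)) :=
      GeometricallyConnected.connectedSpace_of_subsingleton (π.fiberToSpecResidueField _)
    rw [← π.range_fiberι]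
    exact isPreconnected_range (π.fiberι _).continuous
  -- the matrix
  let κ := IsLocalRing.ResidueField R
  let Q : Fin r → Fin r → ℤ := fun i k => dgI κ (e i) (e k).ker
  let hh : Fin r → ℤ := fun i => dgI κ (e i) H
  have hξsupp : ∀ i k, i ≠ k → e i (genericPoint (E i)) ∉ ((e k).ker.support : Set Y) := fun i k hik h => by
    rw [hsupp, hrange] at h
    exact hik (hξinj i k (specializes_iff_mem_closure.2 h)).symm
  have hQsymm : ∀ i k, Q i k = Q k i := fun i k => by
    rcases eq_or_ne i k with rfl | hik
    · rfl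
    simp only [Q, dgI_eq_finrank κ (e i) (hE i) (hcart k) (hξsupp i k hik),
      dgI_eq_finrank κ (e k) (hE k) (hcart i) (hξsupp k i hik.symm)]
    exact_mod_cast finrank_comap_symm κ (e i) (e k) π j (hs i) (hs k)
  have hrel : ∀ i, ∑ k, (m k : ℤ) * Q i k + hh i = 0 := fun i => by
    have h0 : dgI κ (e i) D = 0 := by
      rw [dgI, degC_congr κ (e i) (hE i) iD, degC_unit κ (e i) (hE i), neg_zero]
    rw [← hprod, dgI_mul κ (e i) (hE i) (isEffCartier_prod _ fun k _ => isEffCartier_pow (hcart k) _) hHc,
      dgI_prod κ (e i) (hE i) _ (fun k _ => isEffCartier_pow (hcart k) _)] at h0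
    simp only [dgI_pow κ (e i) (hE i) (hcart _)] at h0
    exact h0
  let A : Option (Fin r) → Option (Fin r) → ℝ
    | some i, some k => (Q i k : ℝ)
    | some i, none => (hh i : ℝ)
    | none, some i => (hh i : ℝ)
    | none, none => -∑ i, (m i : ℝ) * (hh i : ℝ)
  let w : Option (Fin r) → ℝ
    | some i => (m i : ℝ)
    | none => 1
  let z : Option (Fin r) → ℝ
    | some i => (x i : ℝ)
    | none => 0
  have hneg := Groth.L13.CurveContr.quad_neg A w
    (by rintro (_ | i) (_ | k) <;> simp only [A]; exact_mod_cast hQsymm i k)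
    (by
      rintro (_ | i) (_ | k) h <;> simp only [A]
      · exact absurd rfl h
      · exact_mod_cast (dgI_nonneg_and_eq_zero_iff κ (e k) (hE k) hHc (hHξ k)).1
      · exact_mod_cast (dgI_nonneg_and_eq_zero_iff κ (e i) (hE i) hHc (hHξ i)).1
      · exact_mod_cast (dgI_nonneg_and_eq_zero_iff κ (e i) (hE i) (hcart k)
          (hξsupp i k fun hik => h (congrArg some hik))).1)
    (by rintro (_ | i) <;> simp only [w]; exacts [one_pos, by exact_mod_cast hmpos i])
    (by
      rintro (_ | i)
      · rw [Fintype.sum_option]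
        simp only [A, w, mul_one]
        rw [neg_add_eq_zero]
        exact Finset.sum_congr rfl fun i _ => mul_comm _ _
      · rw [Fintype.sum_option]
        simp only [A, w, mul_one]
        have h := congrArg (Int.cast : ℤ → ℝ) (hrel i)
        push_cast at h
        rw [← h, add_comm]
        exact congrArg (· + _) (Finset.sum_congr rfl fun k _ => mul_comm _ _))
    (Finset.univ.filter (·.isSome)) (fun B hB hBne => by
      by_contra hno
      push Not at hno
      let C : Set Y := ⋃ i ∈ Finset.univ.filter (fun i => some i ∈ B), Set.range (e i)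
      let C' : Set Y := (⋃ i ∈ Finset.univ.filter (fun i => some i ∉ B), Set.range (e i)) ∪ (H.support : Set Y)
      have hC : IsClosed C := Set.Finite.isClosed_biUnion (Finset.finite_toSet _) fun i _ =>
        (e i).isClosedEmbedding.isClosed_range
      have hC' : IsClosed C' := (Set.Finite.isClosed_biUnion (Finset.finite_toSet _) fun i _ =>
        (e i).isClosedEmbedding.isClosed_range).union H.support.isClosed
      have hnB : none ∉ B := fun h => by simpa using (Finset.mem_filter.1 (hB h)).2
      have hdis : Disjoint C C' := Set.disjoint_left.2 fun p hp hp' => by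
        obtain ⟨i, hi, hpi⟩ := Set.mem_iUnion₂.1 hp
        have hiB : some i ∈ B := (Finset.mem_filter.1 hi).2
        rcases hp' with hp' | hp'
        · obtain ⟨k, hk, hpk⟩ := Set.mem_iUnion₂.1 hp'
          have hkB : some k ∉ B := (Finset.mem_filter.1 hk).2
          have h0' : (Q i k : ℝ) = 0 := hno (some i) hiB (some k) hkB
          have h0 : Q i k = 0 := by exact_mod_cast h0'
          have hd := (dgI_nonneg_and_eq_zero_iff κ (e i) (hE i) (hcart k)
            (hξsupp i k fun hik => hkB (hik ▸ hiB))).2.1 h0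
          rw [hsupp] at hd
          exact Set.disjoint_left.1 hd hpi hpk
        · have h0' : (hh i : ℝ) = 0 := hno (some i) hiB none hnB
          have h0 : hh i = 0 := by exact_mod_cast h0'
          exact Set.disjoint_left.1 ((dgI_nonneg_and_eq_zero_iff κ (e i) (hE i) hHc (hHξ i)).2.1 h0) hpi hp'
      obtain ⟨b, hb⟩ := hBne
      obtain ⟨i, rfl⟩ : ∃ i, b = some i := Option.isSome_iff_exists.1 (Finset.mem_filter.1 (hB hb)).2
      have hcovC : π ⁻¹' {IsLocalRing.closedPoint R} ⊆ C ∪ C' := fun y hy => by
        obtain ⟨k, hk⟩ := hcov y fun h => (hU _).1 h hy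
        by_cases hkB : some k ∈ B
        · exact Or.inl (Set.mem_iUnion₂.2 ⟨k, Finset.mem_filter.2 ⟨Finset.mem_univ _, hkB⟩, hk⟩)
        · exact Or.inr (Or.inl (Set.mem_iUnion₂.2 ⟨k, Finset.mem_filter.2 ⟨Finset.mem_univ _, hkB⟩, hk⟩))
      obtain ⟨p, -, hpC, hpC'⟩ := isPreconnected_closed_iff.1 hconn C C' hC hC' hcovC
        ⟨ξ i, hpt i _, Set.mem_iUnion₂.2 ⟨i, Finset.mem_filter.2 ⟨Finset.mem_univ _, hb⟩, genericPoint _, rfl⟩⟩
        ⟨d, hdc, Or.inr hdH⟩
      exact Set.disjoint_left.1 hdis hpC hpC')
    z (by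
      rintro (_ | i) h
      · rfl
      · exact absurd (Finset.mem_filter.2 ⟨Finset.mem_univ (some i), Option.isSome_some⟩) h)
    (fun h0 => hx (funext fun i => by
      have h : (x i : ℝ) = 0 := congrFun h0 (some i)
      exact_mod_cast h))
  simp only [Fintype.sum_option, z, A, mul_zero, zero_mul, zero_add, Finset.sum_const_zero] at hneg
  have hval : ∀ i k, @Curv2.deg κ _ (E i) ⟨s i⟩ ((Scheme.Modules.pullback (e i)).obj (L k)) 1 = Q i k := fun i k =>
    degC_inverse κ (e i) (hE i) (hcart k) (hL k)
  simp only [κ] at hval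
  simp only [hval]
  exact_mod_cast hneg

end Groth.L05.LocalForm
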